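import Cfsg.Agent.Lib.ClassicalSimple.SympMatrix

/-!
The translation operators of the Schrödinger model over a finite field of odd order and the intertwiners
belonging to symplectic matrices.
-/

set_option autoImplicit false

open Matrix

namespace Cfsg.Agent.Weil

variable {F : Type*} [Field F] [Fintype F] [DecidableEq F] {n : ℕ}

/-- `a ⬝ b' - b ⬝ a'`. -/
def beta (v w : Fin n ⊕ Fin n → F) : F :=
  (v ∘ Sum.inl) ⬝ᵥ (w ∘ Sum.inr) - (v ∘ Sum.inr) ⬝ᵥ (w ∘ Sum.inl)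

omit [Fintype F] [DecidableEq F] in
theorem beta_eq (v w : Fin n ⊕ Fin n → F) : beta v w = -ClassicalSimple.sympBilin n F v w := by
  rw [ClassicalSimple.sympBilin_apply, Cfsg.sympForm, Matrix.J, Matrix.fromBlocks_mulVec, beta,
    dotProduct, dotProduct, dotProduct, Fintype.sum_sum_type]
  simp only [Sum.elim_inl, Sum.elim_inr, Matrix.zero_mulVec, Matrix.neg_mulVec, Matrix.one_mulVec, zero_add,
    add_zero, Pi.neg_apply, mul_neg, Finset.sum_neg_distrib, Function.comp_apply]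
  ring

omit [Fintype F] [DecidableEq F] in
theorem beta_mulVec (g : Matrix.symplecticGroup (Fin n) F) (v w : Fin n ⊕ Fin n → F) :
    beta (g.1 *ᵥ v) (g.1 *ᵥ w) = beta v w := by
  rw [beta_eq, beta_eq, ClassicalSimple.mem_symplecticGroup_iff_form.1 g.2]

variable (ψ : AddChar F ℂ)

/-- `f ↦ (x ↦ ψ (b ⬝ x + a ⬝ b / 2) * f (x + a))`. -/
def D (v : Fin n ⊕ Fin n → F) : Matrix (Fin n → F) (Fin n → F) ℂ :=
  fun x y => if y = x + v ∘ Sum.inl then
    ψ ((v ∘ Sum.inr) ⬝ᵥ x + 2⁻¹ * ((v ∘ Sum.inl) ⬝ᵥ (v ∘ Sum.inr))) else 0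

theorem D_mul (h2 : (2 : F) ≠ 0) (v w : Fin n ⊕ Fin n → F) :
    D ψ v * D ψ w = ψ (2⁻¹ * beta v w) • D ψ (v + w) := by
  ext x z
  rw [Matrix.mul_apply, Matrix.smul_apply,
    Finset.sum_eq_single (x + v ∘ Sum.inl) (fun y _ hy => by simp [D, hy]) (by simp)]
  have hl : (v + w) ∘ Sum.inl = v ∘ Sum.inl + w ∘ Sum.inl := rfl
  have hr : (v + w) ∘ Sum.inr = v ∘ Sum.inr + w ∘ Sum.inr := rfl
  simp only [D, if_pos, hl, hr, ← add_assoc]
  by_cases hz : z = x + v ∘ Sum.inl + w ∘ Sum.inl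
  · rw [if_pos hz, if_pos hz, smul_eq_mul, ← AddChar.map_add_eq_mul, ← AddChar.map_add_eq_mul]
    congr 1
    simp only [beta, dotProduct_add, add_dotProduct]
    rw [dotProduct_comm (w ∘ Sum.inr) (v ∘ Sum.inl), dotProduct_comm (w ∘ Sum.inl) (v ∘ Sum.inr)]
    field_simp
    ring
  · rw [if_neg hz, if_neg hz, mul_zero, smul_zero]

theorem D_zero : D ψ (0 : Fin n ⊕ Fin n → F) = 1 := by
  ext x y
  have h0 : (0 : Fin n ⊕ Fin n → F) ∘ Sum.inl = (0 : Fin n → F) := rfl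
  have h1 : (0 : Fin n ⊕ Fin n → F) ∘ Sum.inr = (0 : Fin n → F) := rfl
  simp only [D, h0, h1, add_zero, zero_dotProduct, mul_zero, AddChar.map_zero_eq_one, Matrix.one_apply]
  exact if_congr eq_comm rfl rfl

variable {ψ}

theorem sum_char_dot (hψ : ψ.IsPrimitive) {b : Fin n → F} (hb : b ≠ 0) :
    ∑ x : Fin n → F, ψ (b ⬝ᵥ x) = 0 := by
  obtain ⟨i, hi⟩ := Function.ne_iff.1 hb
  have h1 : ψ ≠ 1 := fun h => hψ one_ne_zero (by rw [h]; ext; simp)
  obtain ⟨t, ht⟩ := AddChar.ne_one_iff.1 h1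
  let χ : AddChar (Fin n → F) ℂ :=
    ⟨fun x => ψ (b ⬝ᵥ x), by simp, fun x y => by rw [dotProduct_add, AddChar.map_add_eq_mul]⟩
  refine AddChar.sum_eq_zero_of_ne_one (ψ := χ) (AddChar.ne_one_iff.2 ⟨Pi.single i ((b i)⁻¹ * t), ?_⟩)
  show ψ (b ⬝ᵥ _) ≠ 1
  rw [dotProduct_single, mul_inv_cancel_left₀ hi]
  exact ht

theorem trace_D (hψ : ψ.IsPrimitive) (v : Fin n ⊕ Fin n → F) :
    (D ψ v).trace = if v = 0 then (Fintype.card F : ℂ) ^ n else 0 := by
  split_ifs with h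
  · subst h
    simp [D_zero]
  · by_cases ha : v ∘ Sum.inl = 0
    · have hb : v ∘ Sum.inr ≠ 0 := fun hb => h (funext fun i => by
        rcases i with i | i
        · exact congrFun ha i
        · exact congrFun hb i)
      simp only [Matrix.trace, Matrix.diag, D, ha, add_zero, if_pos, zero_dotProduct, mul_zero]
      exact sum_char_dot hψ hb
    · refine Finset.sum_eq_zero fun x _ => ?_
      simp [D, Matrix.diag, ha]

theorem trace_D_neg_mul (h2 : (2 : F) ≠ 0) (hψ : ψ.IsPrimitive) (v w : Fin n ⊕ Fin n → F) :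
    (D ψ (-v) * D ψ w).trace = if v = w then (Fintype.card F : ℂ) ^ n else 0 := by
  rw [D_mul ψ h2, Matrix.trace_smul, trace_D hψ, smul_eq_mul]
  by_cases h : v = w
  · subst h
    have hb : beta (-v) v = 0 := by
      simp only [beta, Pi.neg_comp, neg_dotProduct, dotProduct_comm (v ∘ Sum.inr) (v ∘ Sum.inl)]
      ring
    simp [hb]
  · rw [if_neg h, if_neg (show -v + w ≠ 0 from fun e => h (neg_add_eq_zero.1 e)), mul_zero]

theorem linearIndependent_D (h2 : (2 : F) ≠ 0) (hψ : ψ.IsPrimitive) :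
    LinearIndependent ℂ (fun v : Fin n ⊕ Fin n → F => D ψ v) := by
  rw [Fintype.linearIndependent_iff]
  intro c hc v
  have h := congrArg (fun M => (D ψ (-v) * M).trace) hc
  simp only [Matrix.mul_sum, Matrix.trace_sum, Matrix.mul_smul, Matrix.trace_smul, trace_D_neg_mul h2 hψ,
    Matrix.mul_zero, Matrix.trace_zero, smul_eq_mul, mul_ite, mul_zero, Finset.sum_ite_eq, Finset.mem_univ,
    if_true] at h
  exact (mul_eq_zero.1 h).resolve_right (pow_ne_zero _ (Nat.cast_ne_zero.2 Fintype.card_ne_zero))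

theorem span_D (h2 : (2 : F) ≠ 0) (hψ : ψ.IsPrimitive) :
    Submodule.span ℂ (Set.range fun v : Fin n ⊕ Fin n → F => D ψ v) = ⊤ := by
  refine (linearIndependent_D h2 hψ).span_eq_top_of_card_eq_finrank ?_
  rw [Module.finrank_matrix, Module.finrank_self, mul_one, Fintype.card_fun, Fintype.card_fun,
    Fintype.card_sum, Fintype.card_fin, pow_add]

theorem expansion (h2 : (2 : F) ≠ 0) (hψ : ψ.IsPrimitive) (M : Matrix (Fin n → F) (Fin n → F) ℂ) :
    (Fintype.card F : ℂ) ^ n • M = ∑ v : Fin n ⊕ Fin n → F, (D ψ (-v) * M).trace • D ψ v := by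
  obtain ⟨c, rfl⟩ := (Submodule.mem_span_range_iff_exists_fun ℂ).1
    (show M ∈ Submodule.span ℂ (Set.range fun v : Fin n ⊕ Fin n → F => D ψ v) by rw [span_D h2 hψ]; trivial)
  simp only [Matrix.mul_sum, Matrix.trace_sum, Matrix.mul_smul, Matrix.trace_smul, trace_D_neg_mul h2 hψ,
    smul_eq_mul, mul_ite, mul_zero, Finset.sum_ite_eq, Finset.mem_univ, if_true, Finset.smul_sum, smul_smul]
  exact Finset.sum_congr rfl fun v _ => by rw [mul_comm]

theorem commute_scalar (h2 : (2 : F) ≠ 0) (hψ : ψ.IsPrimitive) {S : Matrix (Fin n → F) (Fin n → F) ℂ}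
    (hS : ∀ v, D ψ v * S = S * D ψ v) : ∃ c : ℂ, S = c • (1 : Matrix (Fin n → F) (Fin n → F) ℂ) := by
  have hall : ∀ M, M * S = S * M := by
    intro M
    have hM : M ∈ Submodule.span ℂ (Set.range fun v : Fin n ⊕ Fin n → F => D ψ v) := by
      rw [span_D h2 hψ]; trivial
    induction hM using Submodule.span_induction with
    | mem x hx => obtain ⟨v, rfl⟩ := hx; exact hS v
    | zero => simp
    | add x y _ _ hx hy => rw [add_mul, mul_add, hx, hy]
    | smul a x _ hx => rw [smul_mul_assoc, mul_smul_comm, hx]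
  obtain ⟨c, hc⟩ := Matrix.mem_range_scalar_of_commute_single (M := S) fun i j _ => hall _
  exact ⟨c, by rw [← hc, Matrix.scalar_apply, Matrix.smul_one_eq_diagonal]⟩

/-- `T` intertwines the translation operators along `g`. -/
def Intertwines (ψ : AddChar F ℂ) (g : Matrix.symplecticGroup (Fin n) F)
    (T : Matrix (Fin n → F) (Fin n → F) ℂ) : Prop :=
  IsUnit T ∧ ∀ v, T * D ψ v = D ψ (g.1 *ᵥ v) * T

theorem isUnit_of_intertwines_ne_zero (h2 : (2 : F) ≠ 0) (hψ : ψ.IsPrimitive)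
    (g : Matrix.symplecticGroup (Fin n) F) {T : Matrix (Fin n → F) (Fin n → F) ℂ}
    (hT : ∀ v, T * D ψ v = D ψ (g.1 *ᵥ v) * T) (hne : T ≠ 0) : IsUnit T := by
  rw [Matrix.isUnit_iff_isUnit_det, isUnit_iff_ne_zero]
  intro hdet
  obtain ⟨x, hx, hTx⟩ := Matrix.exists_mulVec_eq_zero_iff.2 hdet
  have hall : ∀ M : Matrix (Fin n → F) (Fin n → F) ℂ, T *ᵥ (M *ᵥ x) = 0 := by
    intro M
    have hM : M ∈ Submodule.span ℂ (Set.range fun v : Fin n ⊕ Fin n → F => D ψ v) := by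
      rw [span_D h2 hψ]; trivial
    induction hM using Submodule.span_induction with
    | mem z hz =>
      obtain ⟨v, rfl⟩ := hz
      rw [Matrix.mulVec_mulVec, hT, ← Matrix.mulVec_mulVec, hTx, Matrix.mulVec_zero]
    | zero => simp
    | add a b _ _ ha hb => rw [Matrix.add_mulVec, Matrix.mulVec_add, ha, hb, add_zero]
    | smul a b _ hb => rw [Matrix.smul_mulVec, Matrix.mulVec_smul, hb, smul_zero]
  obtain ⟨i, hi⟩ := Function.ne_iff.1 hx
  refine hne (Matrix.toLin'.injective (LinearMap.ext fun y => ?_))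
  have h := hall (Matrix.vecMulVec y (Pi.single i (x i)⁻¹))
  rw [Matrix.vecMulVec_mulVec, single_dotProduct, inv_mul_cancel₀ hi] at h
  simpa using h

theorem exists_intertwines (h2 : (2 : F) ≠ 0) (hψ : ψ.IsPrimitive) (g : Matrix.symplecticGroup (Fin n) F) :
    ∃ T, Intertwines ψ g T := by
  let TA := fun A : Matrix (Fin n → F) (Fin n → F) ℂ =>
    ∑ v : Fin n ⊕ Fin n → F, D ψ (g.1 *ᵥ v) * A * D ψ (-v)
  have hTA : ∀ A w, TA A * D ψ w = D ψ (g.1 *ᵥ w) * TA A := by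
    intro A w
    simp only [TA, Finset.sum_mul, Finset.mul_sum]
    refine (Fintype.sum_equiv (Equiv.addLeft w) _ _ fun v => ?_).symm
    simp only [Equiv.coe_addLeft]
    rw [mul_assoc (D ψ (g.1 *ᵥ (w + v)) * A) (D ψ (-(w + v))) (D ψ w), D_mul ψ h2,
      ← mul_assoc (D ψ (g.1 *ᵥ w)) (D ψ (g.1 *ᵥ v) * A) (D ψ (-v)),
      ← mul_assoc (D ψ (g.1 *ᵥ w)) (D ψ (g.1 *ᵥ v)) A, D_mul ψ h2, beta_mulVec, ← Matrix.mulVec_add,
      show -(w + v) + w = -v by abel, mul_smul_comm, smul_mul_assoc, smul_mul_assoc]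
    congr 2
    simp only [beta, Pi.neg_comp, Pi.add_comp, neg_dotProduct, add_dotProduct,
      dotProduct_comm (v ∘ Sum.inl) (w ∘ Sum.inr), dotProduct_comm (v ∘ Sum.inr) (w ∘ Sum.inl),
      dotProduct_comm (w ∘ Sum.inl) (w ∘ Sum.inr)]
    ring
  by_contra hno
  have hzero : ∀ A, TA A = 0 := fun A => by
    by_contra h
    exact hno ⟨TA A, isUnit_of_intertwines_ne_zero h2 hψ g (hTA A) h, hTA A⟩
  have hcoef : ∀ i x : Fin n → F, ∀ v, D ψ (g.1 *ᵥ v) i x = 0 := by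
    intro i x v
    have hsum : ∑ v : Fin n ⊕ Fin n → F, D ψ (g.1 *ᵥ v) i x • D ψ (-v) = 0 := by
      ext y j
      have h := congrFun (congrFun (hzero (Matrix.single x y 1)) i) j
      simp only [TA, Matrix.sum_apply, Matrix.zero_apply] at h
      rw [Matrix.sum_apply, Matrix.zero_apply]
      refine Eq.trans (Finset.sum_congr rfl fun v _ => ?_) h
      rw [Matrix.smul_apply, smul_eq_mul, Matrix.mul_assoc, Matrix.mul_apply,
        Finset.sum_eq_single x (fun z _ hz => by simp [Matrix.single_mul_apply_of_ne _ _ _ _ _ hz]) (by simp),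
        Matrix.single_mul_apply_same, one_mul]
    exact Fintype.linearIndependent_iff.1
      ((linearIndependent_D h2 hψ).comp _ (Equiv.neg _).injective) _ hsum v
  have h := hcoef 0 0 0
  rw [Matrix.mulVec_zero, D_zero, Matrix.one_apply_eq] at h
  exact one_ne_zero h

theorem intertwines_unique (h2 : (2 : F) ≠ 0) (hψ : ψ.IsPrimitive) {g : Matrix.symplecticGroup (Fin n) F}
    {T T' : Matrix (Fin n → F) (Fin n → F) ℂ} (hT : Intertwines ψ g T) (hT' : Intertwines ψ g T') :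
    ∃ c : ℂ, c ≠ 0 ∧ T' = c • T := by
  obtain ⟨u, rfl⟩ := hT.1
  obtain ⟨c, hc⟩ := commute_scalar h2 hψ (S := (↑u⁻¹ : Matrix (Fin n → F) (Fin n → F) ℂ) * T') fun v => by
    rw [mul_assoc (↑u⁻¹ : Matrix (Fin n → F) (Fin n → F) ℂ), hT'.2, ← mul_assoc, ← mul_assoc]
    congr 1
    rw [Units.eq_inv_mul_iff_mul_eq, ← mul_assoc, hT.2, Units.mul_inv_cancel_right]
  have e : T' = c • (u : Matrix (Fin n → F) (Fin n → F) ℂ) := by
    rw [← Units.mul_inv_cancel_left u T', hc, mul_smul_comm, mul_one]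
  refine ⟨c, ?_, e⟩
  rintro rfl
  have := hT'.1
  rw [e, zero_smul, Matrix.isUnit_iff_isUnit_det, Matrix.det_zero] at this
  exact not_isUnit_zero this

theorem Intertwines.mul {g g' : Matrix.symplecticGroup (Fin n) F} {T T' : Matrix (Fin n → F) (Fin n → F) ℂ}
    (hT : Intertwines ψ g T) (hT' : Intertwines ψ g' T') : Intertwines ψ (g * g') (T * T') := by
  refine ⟨hT.1.mul hT'.1, fun v => ?_⟩
  rw [mul_assoc, hT'.2, ← mul_assoc, hT.2, mul_assoc, Submonoid.coe_mul, Matrix.mulVec_mulVec]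

theorem Intertwines.smul {g : Matrix.symplecticGroup (Fin n) F} {T : Matrix (Fin n → F) (Fin n → F) ℂ}
    (hT : Intertwines ψ g T) {c : ℂ} (hc : c ≠ 0) : Intertwines ψ g (c • T) := by
  refine ⟨?_, fun v => by rw [smul_mul_assoc, mul_smul_comm, hT.2]⟩
  have := hT.1
  rw [Matrix.isUnit_iff_isUnit_det, isUnit_iff_ne_zero] at this ⊢
  rw [Matrix.det_smul]
  exact mul_ne_zero (pow_ne_zero _ hc) this

theorem intertwines_one : Intertwines ψ (1 : Matrix.symplecticGroup (Fin n) F) 1 :=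
  ⟨isUnit_one, fun v => by simp⟩

end Cfsg.Agent.Weil
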