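import Cfsg.Agent.Lib.ClassicalSimple.SympMatrix

/-!
The lower bound for the degree of a nontrivial representation of `Sp_2n(q)`, `q` odd: the characters of the
radical of the Siegel parabolic form orbits of size at least `(q ^ n - 1) / 2` under the Levi factor.
-/

set_option autoImplicit false

open Matrix Module Polynomial

namespace Cfsg.Agent.Weil

variable {F : Type*} [Field F] [Fintype F] {n : ℕ}

/-! ### Orbits of symmetric forms -/

theorem exists_move {r l : Module.Dual F (Fin n → F)} {e u : Fin n → F} {t : F} (ht : t ≠ 0)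
    (he : r e = t) (hu : l u = t) :
    ∃ A : (Fin n → F) ≃ₗ[F] (Fin n → F), A e = u ∧ ∀ x, l (A x) = r x := by
  have hr : r ≠ 0 := fun h => ht (by rw [← he, h, LinearMap.zero_apply])
  have hl : l ≠ 0 := fun h => ht (by rw [← hu, h, LinearMap.zero_apply])
  have hdim : finrank F (LinearMap.ker r) = finrank F (LinearMap.ker l) := by
    have h1 := Module.Dual.finrank_ker_add_one_of_ne_zero hr
    have h2 := Module.Dual.finrank_ker_add_one_of_ne_zero hl
    omega
  let φ : LinearMap.ker r ≃ₗ[F] LinearMap.ker l := LinearEquiv.ofFinrankEq _ _ hdim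
  let p : (Fin n → F) →ₗ[F] LinearMap.ker r :=
    LinearMap.codRestrict _ (LinearMap.id - (t⁻¹ • r).smulRight e) fun x => by
      simp [he, ht, mul_comm t⁻¹ (r x)]
  let A₀ : (Fin n → F) →ₗ[F] (Fin n → F) :=
    (LinearMap.ker l).subtype ∘ₗ φ.toLinearMap ∘ₗ p + (t⁻¹ • r).smulRight u
  have hA : ∀ x, A₀ x = (φ (p x) : Fin n → F) + (t⁻¹ * r x) • u := fun x => rfl
  have hlA : ∀ x, l (A₀ x) = r x := fun x => by
    rw [hA, map_add, map_smul, LinearMap.mem_ker.1 (φ (p x)).2, hu, smul_eq_mul, zero_add]
    field_simp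
  have hp : ∀ x, (p x : Fin n → F) = x - (t⁻¹ * r x) • e := fun x => rfl
  have hinj : Function.Injective A₀ := by
    rw [injective_iff_map_eq_zero]
    intro x hx
    have hrx : r x = 0 := by rw [← hlA, hx, map_zero]
    rw [hA, hrx, mul_zero, zero_smul, add_zero, ZeroMemClass.coe_eq_zero, LinearEquiv.map_eq_zero_iff] at hx
    have := hp x
    rwa [hx, hrx, mul_zero, zero_smul, sub_zero, ZeroMemClass.coe_zero, eq_comm] at this
  refine ⟨LinearEquiv.ofInjectiveEndo A₀ hinj, ?_, hlA⟩
  show A₀ e = u
  have hpe : p e = 0 := Subtype.ext (by rw [hp, he, inv_mul_cancel₀ ht, one_smul, sub_self]; rfl)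
  rw [hA, hpe, map_zero, he, inv_mul_cancel₀ ht, one_smul]
  simp

/-- The orbit of a form under the linear group. -/
def formOrbit (B : (Fin n → F) →ₗ[F] (Fin n → F) →ₗ[F] F) : Set ((Fin n → F) → (Fin n → F) → F) :=
  {f | ∃ A : (Fin n → F) ≃ₗ[F] (Fin n → F), f = fun x y => B (A x) (A y)}

theorem card_formOrbit (h2 : (2 : F) ≠ 0) (B : (Fin n → F) →ₗ[F] (Fin n → F) →ₗ[F] F)
    (hs : ∀ x y, B x y = B y x) (hB : B ≠ 0) :
    (Fintype.card F ^ n - 1) / 2 ≤ Nat.card (formOrbit B) := by
  classical
  have hq := Fintype.one_lt_card (α := F)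
  have hpol : ∀ x y, B (x + y) (x + y) = B x x + 2 * B x y + B y y := fun x y => by
    simp only [map_add, LinearMap.add_apply, hs y x]; ring
  obtain ⟨u, hu⟩ : ∃ u, B u u ≠ 0 := by
    by_contra h
    push Not at h
    refine hB (LinearMap.ext₂ fun x y => ?_)
    have := hpol x y
    rw [h, h, h, zero_add, add_zero] at this
    simpa [h2] using this.symm
  have hdual : Nat.card (Module.Dual F (Fin n → F)) = Fintype.card F ^ n := by
    rw [Module.natCard_eq_pow_finrank (K := F), Subspace.dual_finrank_eq, Module.finrank_fin_fun,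
      Nat.card_eq_fintype_card]
  have : Finite (Module.Dual F (Fin n → F)) := Module.finite_of_finite F
  have : Fintype (Module.Dual F (Fin n → F)) := Fintype.ofFinite _
  have hdual' : Fintype.card (Module.Dual F (Fin n → F)) = Fintype.card F ^ n := by
    rw [← hdual, Nat.card_eq_fintype_card]
  by_cases hcase : ∃ h, B u h = 0 ∧ B h h ≠ 0
  · obtain ⟨h, huh, hh⟩ := hcase
    have hrep : ∀ t, t ≠ 0 → ∃ v, B v v = t := by
      intro t _
      have hodd : Fintype.card F % 2 = 1 := FiniteField.odd_card_of_char_ne_two fun hc => h2 (by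
        have := ringChar.Nat.cast_ringChar (R := F)
        rw [hc] at this
        exact_mod_cast this)
      obtain ⟨a, b, hab⟩ := FiniteField.exists_root_sum_quadratic
        (f := C (B u u) * X ^ 2) (g := C (B h h) * X ^ 2 - C t)
        (degree_C_mul_X_pow 2 hu)
        (by
          have hg : degree (C (B h h) * X ^ 2) = ((2 : ℕ) : WithBot ℕ) := degree_C_mul_X_pow 2 hh
          rw [degree_sub_eq_left_of_degree_lt (lt_of_le_of_lt degree_C_le (by rw [hg]; norm_num)), hg]
          rfl) hodd
      refine ⟨a • u + b • h, ?_⟩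
      simp only [eval_mul, eval_sub, eval_C, eval_pow, eval_X] at hab
      rw [hpol]
      simp only [map_smul, LinearMap.smul_apply, smul_eq_mul, huh]
      linear_combination hab
    let S := Finset.univ.filter fun r : Module.Dual F (Fin n → F) => r u ≠ 0
    have hS : Fintype.card F ^ n - Fintype.card F ^ (n - 1) ≤ S.card := by
      have hker : (Finset.univ.filter fun r : Module.Dual F (Fin n → F) => ¬ r u ≠ 0).card =
          Fintype.card F ^ (n - 1) := by
        have hne : (Module.Dual.eval F (Fin n → F) u) ≠ 0 := by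
          intro h0
          exact hu (DFunLike.congr_fun h0 (B u))
        have h1 := Module.Dual.finrank_ker_add_one_of_ne_zero hne
        rw [Subspace.dual_finrank_eq, Module.finrank_fin_fun] at h1
        rw [show n - 1 = finrank F (LinearMap.ker (Module.Dual.eval F (Fin n → F) u)) by omega,
          ← Nat.card_eq_fintype_card (α := F), ← Module.natCard_eq_pow_finrank (K := F)
            (V := LinearMap.ker (Module.Dual.eval F (Fin n → F) u)), ← Fintype.card_subtype,
          ← Nat.card_eq_fintype_card]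
        exact Nat.card_congr (Equiv.subtypeEquivRight fun r => by simp [LinearMap.mem_ker])
      have := Finset.card_filter_add_card_filter_not (s := (Finset.univ : Finset (Module.Dual F (Fin n → F))))
        (fun r => r u ≠ 0)
      rw [hker, Finset.card_univ, hdual'] at this
      have h' : S.card + Fintype.card F ^ (n - 1) = Fintype.card F ^ n := this
      omega
    have hA : ∀ r : S, ∃ f : formOrbit B, ∀ y, f.1 u y = r.1 y := by
      rintro ⟨r, hr⟩
      obtain ⟨v, hv⟩ := hrep (r u) (Finset.mem_filter.1 hr).2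
      obtain ⟨A, hAu, hAr⟩ := exists_move (l := B v) (Finset.mem_filter.1 hr).2 rfl hv
      exact ⟨⟨_, A, rfl⟩, fun y => by show B (A u) (A y) = r y; rw [hAu, hAr]⟩
    choose f hf using hA
    have hinj : Function.Injective f := fun r r' e =>
      Subtype.ext (LinearMap.ext fun y => by rw [← hf r y, e, hf r' y])
    have := Nat.card_le_card_of_injective f hinj
    rw [Nat.card_eq_fintype_card, Fintype.card_coe] at this
    refine le_trans ?_ (hS.trans this)
    rcases Nat.eq_zero_or_pos n with rfl | hn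
    · simp
    · have : Fintype.card F ^ (n - 1) * 2 ≤ Fintype.card F ^ n := by
        conv_rhs => rw [← Nat.sub_add_cancel hn, pow_succ]
        exact Nat.mul_le_mul_left _ hq
      omega
  · push Not at hcase
    have hrank : ∀ x y, B x y = (B u u)⁻¹ * (B u x * B u y) := by
      have hH : ∀ x y, B u x = 0 → B u y = 0 → B x y = 0 := fun x y hx hy => by
        have := hpol x y
        rw [hcase x hx, hcase y hy, hcase (x + y) (by rw [map_add, hx, hy, add_zero]), zero_add,
          add_zero] at this
        simpa [h2] using this.symm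
      intro x y
      have := hH (x - ((B u u)⁻¹ * B u x) • u) (y - ((B u u)⁻¹ * B u y) • u)
        (by rw [map_sub, map_smul, smul_eq_mul]; field_simp; ring)
        (by rw [map_sub, map_smul, smul_eq_mul]; field_simp; ring)
      simp only [map_sub, map_smul, LinearMap.sub_apply, LinearMap.smul_apply, smul_eq_mul, hs x u] at this
      field_simp at this ⊢
      linear_combination this
    let S := Finset.univ.filter fun r : Module.Dual F (Fin n → F) => r ≠ 0
    have hA : ∀ r : S, ∃ f : formOrbit B, ∀ x y, f.1 x y = (B u u)⁻¹ * (r.1 x * r.1 y) := by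
      rintro ⟨r, hr⟩
      obtain ⟨e, he⟩ : ∃ e, r e ≠ 0 := by
        by_contra h0
        push Not at h0
        exact (Finset.mem_filter.1 hr).2 (LinearMap.ext h0)
      obtain ⟨A, -, hAr⟩ := exists_move (r := r) (l := B u) (e := (B u u / r e) • e) (u := u) hu
        (by rw [map_smul, smul_eq_mul, div_mul_cancel₀ _ he]) rfl
      exact ⟨⟨_, A, rfl⟩, fun x y => by show B (A x) (A y) = _; rw [hrank, hAr, hAr]⟩
    choose f hf using hA
    have hfib : ∀ g ∈ (Finset.univ : Finset S).image f, ((Finset.univ : Finset S).filter fun r => f r = g).card ≤ 2 := by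
      intro g hg
      obtain ⟨r₀, -, rfl⟩ := Finset.mem_image.1 hg
      refine le_trans (Finset.card_le_card_of_injOn (fun r : S => r.1)
        (t := {r₀.1, -r₀.1}) (fun r hr => ?_) Subtype.val_injective.injOn) Finset.card_le_two
      simp only [Finset.coe_filter, Finset.mem_univ, true_and, Set.mem_ofPred_eq] at hr
      simp only [Finset.coe_insert, Finset.coe_singleton, Set.mem_insert_iff, Set.mem_singleton_iff]
      have h' : ∀ x y, r.1 x * r.1 y = r₀.1 x * r₀.1 y := fun x y =>
        mul_left_cancel₀ (inv_ne_zero hu) (by rw [← hf, ← hf, hr])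
      obtain ⟨e, he⟩ : ∃ e, r₀.1 e ≠ 0 := by
        by_contra h0
        push Not at h0
        exact (Finset.mem_filter.1 r₀.2).2 (LinearMap.ext h0)
      rcases mul_self_eq_mul_self_iff.1 (h' e e) with h1 | h1
      · exact Or.inl (LinearMap.ext fun y => mul_left_cancel₀ he (by rw [← h' e y, h1]))
      · refine Or.inr (LinearMap.ext fun y => mul_left_cancel₀ he ?_)
        rw [LinearMap.neg_apply, mul_neg, ← h' e y, h1, neg_mul, neg_neg]
    have h1 := Finset.card_le_mul_card_image (s := (Finset.univ : Finset S)) (f := f) 2 hfib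
    rw [Finset.card_univ, Fintype.card_coe] at h1
    have hSc : S.card = Fintype.card F ^ n - 1 := by
      rw [show S = (Finset.univ : Finset (Module.Dual F (Fin n → F))).erase 0 from
        Finset.filter_ne' _ _, Finset.card_erase_of_mem (Finset.mem_univ _), Finset.card_univ,
        ← Nat.card_eq_fintype_card, hdual]
    let : Fintype (formOrbit B) := Fintype.ofFinite _
    have h3 : (((Finset.univ : Finset S)).image f).card ≤ Nat.card (formOrbit B) := by
      rw [Nat.card_eq_fintype_card]
      exact Finset.card_le_univ _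
    omega

/-! ### The Siegel parabolic -/

variable (F n) in
/-- Symmetric matrices. -/
def SymMat : AddSubgroup (Matrix (Fin n) (Fin n) F) where
  carrier := {S | Sᵀ = S}
  add_mem' {a b} ha hb := by simp_all
  zero_mem' := by simp
  neg_mem' {a} ha := by simp_all

/-- The radical. -/
def rad : Multiplicative (SymMat F n) →* Matrix.symplecticGroup (Fin n) F where
  toFun S := ⟨fromBlocks 1 S.toAdd.1 0 1, by
    have hS : S.toAdd.1ᵀ = S.toAdd.1 := S.toAdd.2
    rw [SymplecticGroup.mem_iff, Matrix.J, fromBlocks_transpose, fromBlocks_multiply, fromBlocks_multiply]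
    simp [hS]⟩
  map_one' := Subtype.ext (by simp [← fromBlocks_one])
  map_mul' S T := Subtype.ext (by simp [fromBlocks_multiply, add_comm])

/-- The Levi factor. -/
noncomputable def levi (A : GL (Fin n) F) : Matrix.symplecticGroup (Fin n) F :=
  ⟨fromBlocks A.1 0 0 (↑A⁻¹ : Matrix (Fin n) (Fin n) F)ᵀ, by
    rw [SymplecticGroup.mem_iff, Matrix.J, fromBlocks_transpose, fromBlocks_multiply, fromBlocks_multiply]
    simp [← transpose_mul]⟩

/-- The congruence action. -/
def congr (A : GL (Fin n) F) : SymMat F n →+ SymMat F n where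
  toFun S := ⟨A.1 * S.1 * A.1ᵀ, by
    show (A.1 * S.1 * A.1ᵀ)ᵀ = _
    rw [transpose_mul, transpose_mul, transpose_transpose, show S.1ᵀ = S.1 from S.2, Matrix.mul_assoc]⟩
  map_zero' := Subtype.ext (by simp)
  map_add' S T := Subtype.ext (by simp [Matrix.mul_add, Matrix.add_mul])

omit [Fintype F] in
theorem levi_rad (A : GL (Fin n) F) (S : SymMat F n) :
    levi A * rad (Multiplicative.ofAdd S) = rad (Multiplicative.ofAdd (congr A S)) * levi A := by
  refine Subtype.ext ?_
  show fromBlocks _ _ _ _ * fromBlocks _ _ _ _ = fromBlocks _ _ _ _ * fromBlocks _ _ _ _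
  rw [fromBlocks_multiply, fromBlocks_multiply]
  simp [congr, Matrix.mul_assoc, ← transpose_mul]

omit [Fintype F] in
theorem rad_mem_center {S : SymMat F n}
    (h : rad (Multiplicative.ofAdd S) ∈ Subgroup.center (Matrix.symplecticGroup (Fin n) F)) : S = 0 := by
  let L : Matrix.symplecticGroup (Fin n) F := ⟨fromBlocks 1 0 1 1, by
    rw [SymplecticGroup.mem_iff, Matrix.J, fromBlocks_transpose, fromBlocks_multiply, fromBlocks_multiply]
    simp⟩
  have h1 := congrArg Subtype.val (Subgroup.mem_center_iff.1 h L)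
  simp only [L, rad, MonoidHom.coe_mk, OneHom.coe_mk, Submonoid.coe_mul, toAdd_ofAdd, fromBlocks_multiply,
    fromBlocks_inj] at h1
  exact Subtype.ext (by simpa using h1.1.symm)

/-- The matrix `c • (x yᵀ + y xᵀ)`. -/
def symElt (x y : Fin n → F) : F →+ SymMat F n where
  toFun c := ⟨c • (vecMulVec x y + vecMulVec y x), by
    show (c • (vecMulVec x y + vecMulVec y x))ᵀ = _
    simp [transpose_vecMulVec, add_comm]⟩
  map_zero' := Subtype.ext (by simp)
  map_add' a b := Subtype.ext (by simp [add_smul]; abel)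

omit [Fintype F] in
theorem congr_symElt (A : GL (Fin n) F) (x y : Fin n → F) (c : F) :
    congr A (symElt x y c) = symElt (A.1 *ᵥ x) (A.1 *ᵥ y) c := by
  refine Subtype.ext ?_
  show A.1 * (c • (vecMulVec x y + vecMulVec y x)) * A.1ᵀ = c • (_ + _)
  rw [Matrix.mul_smul, Matrix.smul_mul, Matrix.mul_add, Matrix.add_mul, Matrix.mul_vecMulVec,
    Matrix.mul_vecMulVec, Matrix.vecMulVec_mul, Matrix.vecMulVec_mul, vecMul_transpose, vecMul_transpose]

theorem exists_form (h2 : (2 : F) ≠ 0) {φ : AddChar (SymMat F n) ℂ} (hφ : φ ≠ 1) {ψ : AddChar F ℂ}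
    (hψ : ψ.IsPrimitive) :
    ∃ B : (Fin n → F) →ₗ[F] (Fin n → F) →ₗ[F] F, B ≠ 0 ∧ (∀ x y, B x y = B y x) ∧
      ∀ x y c, φ (symElt x y c) = ψ (B x y * c) := by
  classical
  have hsurj : Function.Bijective ψ.mulShift :=
    (Fintype.bijective_iff_injective_and_card _).2
      ⟨AddChar.to_mulShift_inj_of_isPrimitive hψ, AddChar.card_eq.symm⟩
  have hex : ∀ x y, ∃ t, ∀ c, φ (symElt x y c) = ψ (t * c) := fun x y => by
    obtain ⟨t, ht⟩ := hsurj.2 (φ.compAddMonoidHom (symElt x y))
    exact ⟨t, fun c => (DFunLike.congr_fun ht c).symm⟩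
  choose b hb using hex
  have huniq : ∀ {s t : F}, (∀ c, ψ (s * c) = ψ (t * c)) → s = t := fun h =>
    hsurj.1 (DFunLike.ext _ _ h)
  have hsymm : ∀ x y, b x y = b y x := fun x y => huniq fun c => by
    rw [← hb, ← hb]
    exact congrArg φ (Subtype.ext (by simp [symElt, add_comm]))
  have hadd : ∀ x x' y, b (x + x') y = b x y + b x' y := fun x x' y => huniq fun c => by
    rw [add_mul, AddChar.map_add_eq_mul, ← hb, ← hb, ← hb, ← AddChar.map_add_eq_mul]
    exact congrArg φ (Subtype.ext (by simp [symElt, add_vecMulVec, vecMulVec_add]; module))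
  have hsmul : ∀ (a : F) x y, b (a • x) y = a * b x y := fun a x y => huniq fun c => by
    rw [← hb, show a * b x y * c = b x y * (a * c) by ring, ← hb]
    exact congrArg φ (Subtype.ext (by simp [symElt, smul_vecMulVec, vecMulVec_smul, smul_smul, mul_comm]))
  let B : (Fin n → F) →ₗ[F] (Fin n → F) →ₗ[F] F := LinearMap.mk₂ F b hadd hsmul
    (fun x y y' => by rw [hsymm, hadd, hsymm y, hsymm y']) (fun a x y => by rw [hsymm, hsmul, hsymm y, smul_eq_mul])
  refine ⟨B, fun h0 => hφ (DFunLike.ext _ _ fun S => ?_), hsymm, fun x y c => hb x y c⟩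
  have hz : ∀ x y c, φ (symElt x y c) = 1 := fun x y c => by
    rw [hb, show b x y = 0 from LinearMap.congr_fun₂ h0 x y, zero_mul, AddChar.map_zero_eq_one]
  have hS : S = ∑ i, ∑ j, symElt (Pi.single i 1) (Pi.single j 1) (2⁻¹ * S.1 i j) := by
    refine Subtype.ext ?_
    rw [AddSubgroup.val_finsetSum]
    simp only [AddSubgroup.val_finsetSum]
    ext a c
    have hs : S.1 c a = S.1 a c := congrFun (congrFun S.2 a) c
    simp only [symElt, AddMonoidHom.coe_mk, ZeroHom.coe_mk, Matrix.sum_apply, Matrix.smul_apply, Matrix.add_apply,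
      Matrix.vecMulVec_apply, Pi.single_apply, smul_eq_mul, mul_add, Finset.sum_add_distrib]
    simp [Finset.sum_ite_eq, mul_ite, ite_mul, hs]
    field_simp
    ring
  rw [hS, AddChar.one_apply]
  exact Finset.sum_induction _ (fun T => φ T = 1)
    (fun a b ha hb => by rw [AddChar.map_add_eq_mul, ha, hb, one_mul]) φ.map_zero_eq_one
    fun i _ => Finset.sum_induction _ (fun T => φ T = 1)
      (fun a b ha hb => by rw [AddChar.map_add_eq_mul, ha, hb, one_mul]) φ.map_zero_eq_one
      fun j _ => hz _ _ _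

theorem degree_ge (hn : 2 ≤ n) (h2 : (2 : F) ≠ 0) (k : ℕ)
    (ρ : Representation ℂ (Matrix.symplecticGroup (Fin n) F) (Fin k → ℂ)) (hρ : ρ.IsIrreducible)
    (hk : 2 ≤ k) : (Fintype.card F ^ n - 1) / 2 ≤ k := by
  classical
  let : Fintype (SymMat F n) := Fintype.ofFinite _
  let op := fun S : SymMat F n => ρ (rad (Multiplicative.ofAdd S))
  have hop : ∀ S T, op (S + T) = op S * op T := fun S T => by simp [op, ofAdd_add, map_mul]
  let Φ := {φ : AddChar (SymMat F n) ℂ | ∃ v : Fin k → ℂ, v ≠ 0 ∧ ∀ S, op S v = φ S • v}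
  -- at most `k` weights
  have hΦ : Nat.card Φ ≤ k := by
    choose v hv using fun φ : Φ => φ.2
    have hind : LinearIndependent ℂ v := by
      rw [Fintype.linearIndependent_iff]
      intro c hc φ₀
      have h1 : ∀ S, ∑ φ : Φ, (c φ * φ.1 S) • v φ = 0 := fun S => by
        have := congrArg (op S) hc
        rw [map_zero, map_sum] at this
        simpa [(hv _).2 S, smul_smul] using this
      have h3 : ∑ φ : Φ, ∑ S : SymMat F n, (φ₀.1 (-S) * (c φ * φ.1 S)) • v φ = 0 := by
        rw [Finset.sum_comm]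
        exact Finset.sum_eq_zero fun S _ => by
          simp only [← smul_smul (φ₀.1 (-S)), ← Finset.smul_sum, h1, smul_zero]
      rw [Finset.sum_eq_single φ₀ (fun φ _ hne => ?_) (by simp)] at h3
      · rw [Finset.sum_congr rfl fun S _ => show (φ₀.1 (-S) * (c φ₀ * φ₀.1 S)) • v φ₀ = c φ₀ • v φ₀ by
          rw [mul_left_comm, ← AddChar.map_add_eq_mul, neg_add_cancel, AddChar.map_zero_eq_one, mul_one],
          Finset.sum_const, Finset.card_univ] at h3
        rw [← Nat.cast_smul_eq_nsmul ℂ, smul_smul] at h3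
        rcases smul_eq_zero.1 h3 with h | h
        · exact (mul_eq_zero.1 h).resolve_left (Nat.cast_ne_zero.2 Fintype.card_ne_zero)
        · exact absurd h (hv φ₀).1
      · rw [← Finset.sum_smul]
        have hz : ∑ S : SymMat F n, φ₀.1 (-S) * (c φ * φ.1 S) = 0 := by
          have hd : φ.1 * φ₀.1⁻¹ ≠ 1 := fun e => hne (Subtype.ext (mul_inv_eq_one.1 e))
          have := AddChar.sum_eq_zero_of_ne_one hd
          rw [Finset.sum_congr rfl fun S _ => show φ₀.1 (-S) * (c φ * φ.1 S) = c φ * ((φ.1 * φ₀.1⁻¹) S) by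
            rw [AddChar.mul_apply, AddChar.inv_apply]; ring, ← Finset.mul_sum, this, mul_zero]
        rw [hz, zero_smul]
    simpa [Nat.card_eq_fintype_card] using hind.fintype_card_le_finrank
  -- a nontrivial weight
  have hker : ¬ ∀ S, op S = 1 := by
    intro h
    have hq3 : 3 ≤ Fintype.card F := by
      by_contra hlt
      have h1 := Fintype.one_lt_card (α := F)
      have hc : Fintype.card F = 2 := by omega
      have := FiniteField.cast_card_eq_zero F
      rw [hc] at this
      exact h2 (by exact_mod_cast this)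
    rcases ClassicalSimple.symplectic_normal_eq_top_or_le_center (m := n) (F := F)
      (if h3 : 3 ≤ n then Or.inl h3 else Or.inr (Or.inl ⟨by omega, hq3⟩)) ρ.ker with hK | hK
    · have htriv : ∀ g, ρ g = 1 := fun g => MonoidHom.mem_ker.1 (by rw [hK]; trivial)
      let v : Fin k → ℂ := Pi.single ⟨0, by omega⟩ 1
      let U : Subrepresentation ρ := ⟨ℂ ∙ v, fun g w hw => by rw [htriv]; exact hw⟩
      have := hρ
      rcases IsSimpleOrder.eq_bot_or_eq_top U with hU | hU
      · have : (ℂ ∙ v) = ⊥ := congrArg Subrepresentation.toSubmodule hU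
        rw [Submodule.span_singleton_eq_bot] at this
        simpa [v] using congrFun this ⟨0, by omega⟩
      · have e : (ℂ ∙ v) = ⊤ := congrArg Subrepresentation.toSubmodule hU
        have hf := finrank_span_singleton (K := ℂ) (v := v) (by simp [v])
        rw [e, finrank_top, Module.finrank_fin_fun] at hf
        omega
    · let S₀ : SymMat F n := ⟨Matrix.diagonal fun _ => 1, by
        show (Matrix.diagonal fun _ => (1 : F))ᵀ = _
        rw [diagonal_transpose]⟩
      have := congrArg Subtype.val (rad_mem_center (hK (MonoidHom.mem_ker.2 (h S₀))))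
      have := congrFun (congrFun this ⟨0, by omega⟩) ⟨0, by omega⟩
      simp [S₀] at this
  obtain ⟨φ, hφ, hφ1⟩ : ∃ φ, φ ∈ Φ ∧ φ ≠ 1 := by
    by_contra hno
    push Not at hno
    refine hker fun T => LinearMap.ext fun v => ?_
    let w := fun φ : AddChar (SymMat F n) ℂ => ∑ S : SymMat F n, φ (-S) • op S v
    have hw : ∀ φ S₁, op S₁ (w φ) = φ S₁ • w φ := fun φ S₁ => by
      simp only [w, map_sum, map_smul, Finset.smul_sum, smul_smul]
      refine Fintype.sum_equiv (Equiv.addLeft S₁) _ _ fun S => ?_
      rw [Equiv.coe_addLeft, ← AddChar.map_add_eq_mul, neg_add, add_neg_cancel_left,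
        ← Module.End.mul_apply, ← hop]
    have hw0 : ∀ φ, φ ≠ 1 → w φ = 0 := fun φ hne => by
      by_contra h0
      exact hne (hno φ ⟨w φ, h0, hw φ⟩)
    have hsum : ∑ φ : AddChar (SymMat F n) ℂ, w φ = (Fintype.card (SymMat F n) : ℂ) • v := by
      simp only [w]
      rw [Finset.sum_comm]
      simp only [← Finset.sum_smul, AddChar.sum_apply_eq_ite, neg_eq_zero, ite_smul, zero_smul,
        Finset.sum_ite_eq', Finset.mem_univ, if_true]
      have h0 : op 0 = 1 := by simp [op]
      rw [h0, Module.End.one_apply]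
    rw [Finset.sum_eq_single 1 (fun φ _ hne => hw0 φ hne) (by simp)] at hsum
    have := hw 1 T
    rw [AddChar.one_apply, one_smul, hsum, map_smul] at this
    simpa using smul_right_injective _ (Nat.cast_ne_zero.2 Fintype.card_ne_zero) this
  obtain ⟨ψ, hψ⟩ : ∃ ψ : AddChar F ℂ, ψ.IsPrimitive := by
    obtain ⟨ψ, hψ⟩ := (AddChar.exists_apply_ne_zero (a := (1 : F))).2 one_ne_zero
    exact ⟨ψ, AddChar.IsPrimitive.of_ne_one (AddChar.ne_one_iff.2 ⟨1, hψ⟩)⟩
  obtain ⟨B, hB, hBs, hBφ⟩ := exists_form h2 hφ1 hψ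
  refine le_trans (card_formOrbit h2 B hBs hB) (le_trans ?_ hΦ)
  have hA : ∀ f : formOrbit B, ∃ χ : Φ, ∀ x y c, χ.1 (symElt x y c) = ψ (f.1 x y * c) := by
    rintro ⟨_, A, rfl⟩
    let M : GL (Fin n) F :=
      Matrix.GeneralLinearGroup.toLin.symm (LinearMap.GeneralLinearGroup.ofLinearEquiv A)
    have hM : ∀ x, M.1 *ᵥ x = A x := fun x => by
      have h1 : Matrix.GeneralLinearGroup.toLin M = LinearMap.GeneralLinearGroup.ofLinearEquiv A :=
        Matrix.GeneralLinearGroup.toLin.apply_symm_apply _
      have h2 := LinearMap.congr_fun (congrArg Units.val h1) x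
      exact h2
    obtain ⟨v, hv, hvφ⟩ := hφ
    refine ⟨⟨φ.compAddMonoidHom (congr M), ρ (levi M)⁻¹ v, fun h => hv ?_, fun S => ?_⟩, fun x y c => ?_⟩
    · have := congrArg (ρ (levi M)) h
      rwa [map_zero, ← Module.End.mul_apply, ← map_mul, mul_inv_cancel, map_one] at this
    · have e : rad (Multiplicative.ofAdd S) * (levi M)⁻¹ =
          (levi M)⁻¹ * rad (Multiplicative.ofAdd (congr M S)) := by
        rw [eq_inv_mul_iff_mul_eq, ← mul_assoc, levi_rad, mul_inv_cancel_right]
      show op S (ρ (levi M)⁻¹ v) = φ (congr M S) • ρ (levi M)⁻¹ v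
      rw [← map_smul, ← hvφ]
      simp only [op, ← Module.End.mul_apply, ← map_mul, e]
    · show φ (congr M (symElt x y c)) = _
      rw [congr_symElt, hBφ, hM, hM]
  choose χ hχ using hA
  refine Nat.card_le_card_of_injective χ fun f f' e => Subtype.ext (funext fun x => funext fun y => ?_)
  refine AddChar.to_mulShift_inj_of_isPrimitive hψ (DFunLike.ext _ _ fun c => ?_)
  show ψ (f.1 x y * c) = ψ (f'.1 x y * c)
  rw [← hχ, ← hχ, e]

end Cfsg.Agent.Weil
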