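import Cfsg.Agent.Lib.Weil.Heisenberg

/-!
The odd Weil representation of the symplectic group over a finite field of odd order and its irreducibility.
-/

set_option autoImplicit false

open Matrix Module

namespace Cfsg.Agent.Weil

variable {F : Type*} [Field F] [Fintype F] [DecidableEq F] {n : ℕ} {ψ : AddChar F ℂ}

variable (F n) in
/-- The parity operator. -/
def parity : Matrix (Fin n → F) (Fin n → F) ℂ := fun x y => if y = -x then 1 else 0

theorem parity_sq : parity F n * parity F n = 1 := by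
  ext x z
  rw [Matrix.mul_apply, Finset.sum_eq_single (-x) (fun y _ hy => by simp [parity, hy]) (by simp)]
  simp [parity, Matrix.one_apply, eq_comm]

theorem trace_parity (h2 : (2 : F) ≠ 0) : (parity F n).trace = 1 := by
  rw [Matrix.trace, Finset.sum_eq_single (0 : Fin n → F) (fun x _ hx => ?_) (by simp)]
  · simp [parity]
  · have : x ≠ -x := fun e => hx (funext fun i => by
      have hi := congrFun e i
      simp only [Pi.neg_apply] at hi
      simpa [h2] using (show (2 : F) * x i = 0 by linear_combination hi))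
    simp [parity, Matrix.diag, this]

theorem parity_expansion (h2 : (2 : F) ≠ 0) (hψ : ψ.IsPrimitive) :
    (Fintype.card F : ℂ) ^ n • parity F n = ∑ v : Fin n ⊕ Fin n → F, D ψ v := by
  rw [expansion h2 hψ]
  refine Finset.sum_congr rfl fun v _ => ?_
  suffices h : (D ψ (-v) * parity F n).trace = 1 by rw [h, one_smul]
  have hdiag : ∀ x : Fin n → F, (D ψ (-v) * parity F n) x x = if x = (2⁻¹ : F) • (v ∘ Sum.inl) then 1 else 0 := by
    intro x
    rw [Matrix.mul_apply, Finset.sum_eq_single (x + (-v) ∘ Sum.inl) (fun y _ hy => by simp [D, hy]) (by simp)]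
    have hiff : x = -(x + (-v) ∘ Sum.inl) ↔ x = (2⁻¹ : F) • (v ∘ Sum.inl) := by
      simp only [funext_iff, Pi.neg_apply, Pi.add_apply, Pi.smul_apply, Function.comp_apply, smul_eq_mul]
      refine forall_congr' fun i => ⟨fun h => ?_, fun h => ?_⟩
      · field_simp
        linear_combination h
      · rw [h]
        field_simp
        ring
    simp only [parity, D, if_pos, hiff]
    split_ifs with h
    · rw [h, mul_one]
      have hl : (-v) ∘ Sum.inl = -(v ∘ Sum.inl) := rfl
      have hr : (-v) ∘ Sum.inr = -(v ∘ Sum.inr) := rfl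
      rw [hl, hr, dotProduct_smul, neg_dotProduct, neg_dotProduct, dotProduct_neg, smul_eq_mul, neg_neg,
        dotProduct_comm (v ∘ Sum.inr) (v ∘ Sum.inl), mul_neg, neg_add_cancel, AddChar.map_zero_eq_one]
    · rw [mul_zero]
  simp [Matrix.trace, Matrix.diag, hdiag]

theorem Intertwines.comm_parity (h2 : (2 : F) ≠ 0) (hψ : ψ.IsPrimitive)
    {g : Matrix.symplecticGroup (Fin n) F} {T : Matrix (Fin n → F) (Fin n → F) ℂ} (hT : Intertwines ψ g T) :
    T * parity F n = parity F n * T := by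
  have h : T * ∑ v : Fin n ⊕ Fin n → F, D ψ v = (∑ v : Fin n ⊕ Fin n → F, D ψ v) * T := by
    rw [Finset.mul_sum, Finset.sum_mul]
    refine Fintype.sum_bijective (fun v => g.1 *ᵥ v) ?_ _ _ hT.2
    refine Function.bijective_iff_has_inverse.2 ⟨fun v => (g⁻¹).1 *ᵥ v, fun v => ?_, fun v => ?_⟩ <;>
      show _ *ᵥ (_ *ᵥ v) = v <;> rw [Matrix.mulVec_mulVec, ← Submonoid.coe_mul] <;> simp
  rw [← parity_expansion h2 hψ, mul_smul_comm, smul_mul_assoc] at h
  exact smul_right_injective _ (pow_ne_zero _ (Nat.cast_ne_zero.2 Fintype.card_ne_zero)) h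

variable (F n) in
/-- The eigenspace of the parity operator for `ε`. -/
noncomputable def sign (ε : ℂ) : Submodule ℂ ((Fin n → F) → ℂ) :=
  LinearMap.ker (Matrix.toLin' (parity F n) - ε • LinearMap.id)

theorem mem_sign {ε : ℂ} {f : (Fin n → F) → ℂ} : f ∈ sign F n ε ↔ parity F n *ᵥ f = ε • f := by
  simp [sign, sub_eq_zero, Matrix.toLin'_apply]

theorem finrank_sign (h2 : (2 : F) ≠ 0) :
    finrank ℂ (sign F n (-1)) = (Fintype.card F ^ n - 1) / 2 ∧
      finrank ℂ (sign F n 1) = (Fintype.card F ^ n - 1) / 2 + 1 := by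
  have key : ∀ ε : ℂ, ε * ε = 1 → (finrank ℂ (sign F n ε) : ℂ) = 2⁻¹ * ((Fintype.card F : ℂ) ^ n + ε) := by
    intro ε hε
    let f : ((Fin n → F) → ℂ) →ₗ[ℂ] ((Fin n → F) → ℂ) :=
      (2⁻¹ : ℂ) • (LinearMap.id + ε • Matrix.toLin' (parity F n))
    have hf : ∀ x, f x = (2⁻¹ : ℂ) • (x + ε • (parity F n *ᵥ x)) := fun x => rfl
    have hproj : LinearMap.IsProj (sign F n ε) f := by
      refine ⟨fun x => mem_sign.2 ?_, fun x hx => ?_⟩
      · rw [hf, Matrix.mulVec_smul, Matrix.mulVec_add, Matrix.mulVec_smul, Matrix.mulVec_mulVec, parity_sq,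
          Matrix.one_mulVec, smul_comm ε, smul_add ε, smul_smul ε ε, hε, one_smul, add_comm]
      · rw [hf, mem_sign.1 hx, smul_smul ε, hε, one_smul, smul_add, ← add_smul]
        norm_num
    rw [← hproj.trace, map_smul, map_add, map_smul, LinearMap.trace_id, Matrix.trace_toLin'_eq,
      trace_parity h2, Module.finrank_fintype_fun_eq_card, Fintype.card_fun, Fintype.card_fin]
    push_cast
    simp [smul_eq_mul]
  have h1 := key (-1) (by ring)
  have h3 := key 1 (by ring)
  generalize finrank ℂ (sign F n (-1)) = a at *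
  generalize finrank ℂ (sign F n 1) = b at *
  have e1 : (((2 * a + 1 : ℕ)) : ℂ) = ((Fintype.card F ^ n : ℕ) : ℂ) := by push_cast; rw [h1]; ring
  have e2 : (((2 * b : ℕ)) : ℂ) = ((Fintype.card F ^ n + 1 : ℕ) : ℂ) := by push_cast; rw [h3]; ring
  have := Nat.cast_injective e1
  have := Nat.cast_injective e2
  omega

/-- `T` on the `ε`-eigenspace of the parity. -/
noncomputable def part (ε : ℂ) (T : {T : Matrix (Fin n → F) (Fin n → F) ℂ // T * parity F n = parity F n * T}) :
    sign F n ε →ₗ[ℂ] sign F n ε :=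
  (Matrix.toLin' T.1).restrict fun f hf => mem_sign.2 (by
    rw [Matrix.toLin'_apply, Matrix.mulVec_mulVec, ← T.2, ← Matrix.mulVec_mulVec, mem_sign.1 hf,
      Matrix.mulVec_smul])

variable (F n) in
/-- The matrices commuting with the parity. -/
noncomputable abbrev Cen : Subalgebra ℂ (Matrix (Fin n → F) (Fin n → F) ℂ) :=
  Subalgebra.centralizer ℂ {parity F n}

theorem mem_cen {T : Matrix (Fin n → F) (Fin n → F) ℂ} : T ∈ Cen F n ↔ T * parity F n = parity F n * T := by
  simp [Subalgebra.mem_centralizer_iff, eq_comm]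

/-- The restriction to the `ε`-eigenspace as a map of algebras. -/
noncomputable def partHom (ε : ℂ) : Cen F n →* (sign F n ε →ₗ[ℂ] sign F n ε) where
  toFun T := part ε ⟨T.1, mem_cen.1 T.2⟩
  map_one' := by ext f; simp [part]
  map_mul' S T := by ext f; simp [part, Matrix.mulVec_mulVec]

theorem partHom_smul (ε c : ℂ) (T : Cen F n) : partHom ε (c • T) = c • partHom ε T := by
  ext f
  simp [partHom, part, Matrix.smul_mulVec]

/-- The normalising factor. -/
noncomputable def nu (T : Cen F n) : ℂ := LinearMap.det (partHom (-1) T) / LinearMap.det (partHom 1 T)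

theorem nu_smul (h2 : (2 : F) ≠ 0) (c : ℂ) (T : Cen F n) (hc : c ≠ 0) : c * nu (c • T) = nu T := by
  rw [nu, nu, partHom_smul, partHom_smul, LinearMap.det_smul, LinearMap.det_smul, (finrank_sign h2).1,
    (finrank_sign h2).2, pow_succ]
  field_simp

theorem nu_mul (S T : Cen F n) : nu (S * T) = nu S * nu T := by
  simp only [nu, map_mul]
  rw [div_mul_div_comm]

theorem exists_normalised (h2 : (2 : F) ≠ 0) (hψ : ψ.IsPrimitive) :
    ∃ W : Matrix.symplecticGroup (Fin n) F →* Cen F n,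
      ∀ g, ∃ T : Cen F n, Intertwines ψ g T.1 ∧ W g = nu T • T := by
  have hmem : ∀ g : Matrix.symplecticGroup (Fin n) F, ∃ T : Cen F n, Intertwines ψ g T.1 := fun g => by
    obtain ⟨T, hT⟩ := exists_intertwines h2 hψ g
    exact ⟨⟨T, mem_cen.2 (hT.comm_parity h2 hψ)⟩, hT⟩
  choose T hT using hmem
  have huniq : ∀ g (S : Cen F n), Intertwines ψ g S.1 → nu S • S = nu (T g) • T g := by
    intro g S hS
    obtain ⟨c, hc, e⟩ := intertwines_unique h2 hψ (hT g) hS
    have e' : S = c • T g := Subtype.ext e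
    rw [e', smul_smul, mul_comm, nu_smul h2 c _ hc]
  refine ⟨⟨⟨fun g => nu (T g) • T g, ?_⟩, fun g h => ?_⟩, fun g => ⟨T g, hT g, rfl⟩⟩
  · have h := huniq 1 1 intertwines_one
    rw [← h]
    simp [nu]
  · show nu (T (g * h)) • T (g * h) = nu (T g) • T g * nu (T h) • T h
    rw [← huniq (g * h) (T g * T h) ((hT g).mul (hT h)), nu_mul, smul_mul_smul_comm]

/-- The matrices commuting with all intertwiners are combinations of `1` and the parity. -/
theorem commutant (h2 : (2 : F) ≠ 0) (hψ : ψ.IsPrimitive) (M : Matrix (Fin n → F) (Fin n → F) ℂ)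
    (hM : ∀ g T, Intertwines ψ g T → T * M = M * T) :
    ∃ a b : ℂ, M = a • (1 : Matrix (Fin n → F) (Fin n → F) ℂ) + b • parity F n := by
  have hinv : ∀ (g : Matrix.symplecticGroup (Fin n) F) v,
      (D ψ (-(g.1 *ᵥ v)) * M).trace = (D ψ (-v) * M).trace := by
    intro g v
    obtain ⟨T, hT⟩ := exists_intertwines h2 hψ g
    obtain ⟨u, rfl⟩ := hT.1
    have e : D ψ (-(g.1 *ᵥ v)) = (u : Matrix (Fin n → F) (Fin n → F) ℂ) * D ψ (-v) *
        (↑u⁻¹ : Matrix (Fin n → F) (Fin n → F) ℂ) := by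
      rw [hT.2, Units.mul_inv_cancel_right, Matrix.mulVec_neg]
    have e' : (↑u⁻¹ : Matrix (Fin n → F) (Fin n → F) ℂ) * M =
        M * (↑u⁻¹ : Matrix (Fin n → F) (Fin n → F) ℂ) := by
      have := hM g _ hT
      rw [Units.inv_mul_eq_iff_eq_mul, ← mul_assoc, this, Units.mul_inv_cancel_right]
    rw [e, Matrix.mul_assoc, Matrix.mul_assoc, Matrix.trace_mul_comm, e', Matrix.mul_assoc, Matrix.mul_assoc,
      Units.inv_mul, Matrix.mul_one]
  have hconst : ∀ v w : Fin n ⊕ Fin n → F, v ≠ 0 → w ≠ 0 → (D ψ (-v) * M).trace = (D ψ (-w) * M).trace := by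
    intro v w hv hw
    obtain ⟨g, -, hg⟩ := ClassicalSimple.transvGroup_trans_vec ClassicalSimple.sympBilin_isAlt
      ClassicalSimple.sympBilin_nondegenerate hv hw
    have := hinv (ClassicalSimple.symplecticEquiv.symm g) v
    rw [← ClassicalSimple.symplecticEquiv_smul, MulEquiv.apply_symm_apply, hg] at this
    exact this.symm
  have hq : ((Fintype.card F : ℂ) ^ n) ≠ 0 := pow_ne_zero _ (Nat.cast_ne_zero.2 Fintype.card_ne_zero)
  obtain ⟨c₀, c₁, hc⟩ : ∃ c₀ c₁ : ℂ, ∀ v : Fin n ⊕ Fin n → F,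
      (D ψ (-v) * M).trace = (if v = 0 then c₀ else 0) + c₁ := by
    by_cases hne : ∃ w : Fin n ⊕ Fin n → F, w ≠ 0
    · obtain ⟨w, hw⟩ := hne
      refine ⟨(D ψ (-0) * M).trace - (D ψ (-w) * M).trace, (D ψ (-w) * M).trace, fun v => ?_⟩
      split_ifs with hv
      · rw [hv]; ring
      · rw [hconst v w hv hw, zero_add]
    · push Not at hne
      exact ⟨(D ψ (-0) * M).trace, 0, fun v => by rw [hne v]; simp⟩
  refine ⟨((Fintype.card F : ℂ) ^ n)⁻¹ * c₀, c₁, ?_⟩
  refine smul_right_injective _ hq ?_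
  show _ • M = _ • _
  rw [expansion h2 hψ M, smul_add, smul_smul, ← mul_assoc, mul_inv_cancel₀ hq, one_mul, smul_comm,
    parity_expansion h2 hψ]
  simp only [hc, add_smul, Finset.sum_add_distrib, ite_smul, zero_smul, Finset.sum_ite_eq', Finset.mem_univ,
    if_true, D_zero, Finset.smul_sum]

theorem exists_odd_rep (hn : 1 ≤ n) (h2 : (2 : F) ≠ 0) :
    ∃ ρ : Representation ℂ (Matrix.symplecticGroup (Fin n) F)
      (Fin ((Fintype.card F ^ n - 1) / 2) → ℂ), ρ.IsIrreducible := by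
  classical
  obtain ⟨ψ, hψ⟩ : ∃ ψ : AddChar F ℂ, ψ.IsPrimitive := by
    obtain ⟨ψ, hψ⟩ := (AddChar.exists_apply_ne_zero (a := (1 : F))).2 one_ne_zero
    exact ⟨ψ, AddChar.IsPrimitive.of_ne_one (AddChar.ne_one_iff.2 ⟨1, hψ⟩)⟩
  obtain ⟨W, hW⟩ := exists_normalised (n := n) h2 hψ
  let e : (Fin ((Fintype.card F ^ n - 1) / 2) → ℂ) ≃ₗ[ℂ] sign F n (-1) :=
    LinearEquiv.ofFinrankEq _ _ (by rw [Module.finrank_fin_fun, (finrank_sign h2).1])
  let ρ : Representation ℂ (Matrix.symplecticGroup (Fin n) F) (Fin ((Fintype.card F ^ n - 1) / 2) → ℂ) :=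
    (e.symm.conjAlgEquiv ℂ).toMonoidHom.comp ((partHom (-1)).comp W)
  have hρ : ∀ g x, ((e (ρ g x) : sign F n (-1)) : (Fin n → F) → ℂ) = (W g).1 *ᵥ (e x).1 := fun g x => by
    simp [ρ, partHom, part]
  let ι : (Fin ((Fintype.card F ^ n - 1) / 2) → ℂ) →ₗ[ℂ] ((Fin n → F) → ℂ) :=
    (sign F n (-1)).subtype ∘ₗ e.toLinearMap
  have hι : Function.Injective ι := Subtype.val_injective.comp e.injective
  have hpos : 1 ≤ (Fintype.card F ^ n - 1) / 2 := by
    have h2' : ringChar F ≠ 2 := fun h => h2 (by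
      have := ringChar.Nat.cast_ringChar (R := F)
      rw [h] at this
      exact_mod_cast this)
    have := FiniteField.odd_card_of_char_ne_two h2'
    have : Fintype.card F ^ 1 ≤ Fintype.card F ^ n := Nat.pow_le_pow_right Fintype.card_pos hn
    rw [pow_one] at this
    have := Fintype.one_lt_card (α := F)
    omega
  have : Nonempty (Fin ((Fintype.card F ^ n - 1) / 2)) := ⟨⟨0, hpos⟩⟩
  have : Nontrivial (Subrepresentation ρ) := ⟨⊥, ⊤, fun h => by
    have := congrArg Subrepresentation.toSubmodule h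
    exact bot_ne_top (α := Submodule ℂ (Fin ((Fintype.card F ^ n - 1) / 2) → ℂ)) this⟩
  refine ⟨ρ, ⟨fun U => ?_⟩⟩
  by_cases hU : U.toSubmodule = ⊥
  · exact Or.inl (Subrepresentation.toSubmodule_injective hU)
  refine Or.inr (Subrepresentation.toSubmodule_injective (eq_top_iff.2 fun x _ => ?_))
  show x ∈ U.toSubmodule
  set U' := U.toSubmodule.map ι with hU'
  -- the intertwiners preserve `U'`
  have hst : ∀ g (T : Matrix (Fin n → F) (Fin n → F) ℂ), Intertwines ψ g T →
      ∀ f ∈ U', T *ᵥ f ∈ U' := by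
    rintro g T hT _ ⟨u, hu, rfl⟩
    obtain ⟨S, hS, hWg⟩ := hW g
    obtain ⟨c, -, rfl⟩ := intertwines_unique h2 hψ hS hT
    have hmem : ι (ρ g u) ∈ U' := ⟨_, U.apply_mem_toSubmodule g hu, rfl⟩
    have hne : nu S ≠ 0 := by
      intro h0
      obtain ⟨u', hu', hne⟩ := (Submodule.ne_bot_iff _).1 hU
      have h0' : ρ g u' = 0 := hι (by
        show ((e (ρ g u') : sign F n (-1)) : (Fin n → F) → ℂ) = ι 0
        rw [hρ, map_zero, hWg, h0, zero_smul]
        simp)
      have := congrArg (ρ g⁻¹) h0'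
      rw [map_zero, ← Module.End.mul_apply, ← map_mul, inv_mul_cancel, map_one] at this
      exact hne this
    have heq : c • (S.1 *ᵥ ι u) = (c * (nu S)⁻¹) • ι (ρ g u) := by
      show _ = _ • ((e (ρ g u) : sign F n (-1)) : (Fin n → F) → ℂ)
      rw [hρ, hWg]
      simp [ι, Matrix.smul_mulVec, smul_smul, hne]
    rw [Matrix.smul_mulVec, heq]
    exact Submodule.smul_mem _ _ hmem
  choose T hT using fun g : Matrix.symplecticGroup (Fin n) F => exists_intertwines h2 hψ g
  have hTmem : ∀ g, IsUnit (T g).det := fun g => (Matrix.isUnit_iff_isUnit_det _).1 (hT g).1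
  let : Fintype (Matrix.symplecticGroup (Fin n) F) := Fintype.ofFinite _
  obtain ⟨C, hC⟩ := U'.exists_isCompl
  let p₀ := LinearMap.toMatrix' (U'.subtype ∘ₗ Submodule.projectionOnto U' C hC)
  let M : Matrix (Fin n → F) (Fin n → F) ℂ :=
    ∑ g : Matrix.symplecticGroup (Fin n) F, T g * p₀ * (T g)⁻¹
  have hp0 : ∀ f, p₀ *ᵥ f = (Submodule.projectionOnto U' C hC f : (Fin n → F) → ℂ) := fun f => by
    simp [p₀, LinearMap.toMatrix'_mulVec]
  have hMU : ∀ f, M *ᵥ f ∈ U' := fun f => by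
    rw [Matrix.sum_mulVec]
    refine Submodule.sum_mem _ fun g _ => ?_
    rw [← Matrix.mulVec_mulVec, ← Matrix.mulVec_mulVec]
    exact hst g _ (hT g) _ (by rw [hp0]; exact SetLike.coe_mem _)
  have hMid : ∀ f ∈ U', M *ᵥ f = (Fintype.card (Matrix.symplecticGroup (Fin n) F) : ℂ) • f := by
    intro f hf
    have hterm : ∀ g, (T g * p₀ * (T g)⁻¹) *ᵥ f = f := fun g => by
      have hinv : Intertwines ψ g⁻¹ (T g)⁻¹ := by
        refine ⟨(Matrix.isUnit_nonsing_inv_iff).2 (hT g).1, fun v => ?_⟩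
        have h := (hT g).2 ((g⁻¹).1 *ᵥ v)
        rw [Matrix.mulVec_mulVec, ← Submonoid.coe_mul, mul_inv_cancel, Submonoid.coe_one,
          Matrix.one_mulVec] at h
        have h' := congrArg (fun A => (T g)⁻¹ * A * (T g)⁻¹) h
        simp only [← Matrix.mul_assoc, Matrix.nonsing_inv_mul _ (hTmem g), Matrix.one_mul] at h'
        simp only [Matrix.mul_assoc, Matrix.mul_nonsing_inv _ (hTmem g), Matrix.mul_one] at h'
        exact h'.symm
      rw [← Matrix.mulVec_mulVec, ← Matrix.mulVec_mulVec, hp0,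
        Submodule.projectionOnto_apply_left hC ⟨(T g)⁻¹ *ᵥ f, hst _ _ hinv f hf⟩, Matrix.mulVec_mulVec,
        Matrix.mul_nonsing_inv _ (hTmem g), Matrix.one_mulVec]
    simp only [M, Matrix.sum_mulVec, hterm, Finset.sum_const, Finset.card_univ, Nat.cast_smul_eq_nsmul]
  obtain ⟨a, b, hab⟩ := commutant h2 hψ M fun h S hS => by
    simp only [M, Finset.mul_sum, Finset.sum_mul]
    refine Fintype.sum_equiv (Equiv.mulLeft h) _ _ fun g => ?_
    obtain ⟨c, hc, e⟩ := intertwines_unique h2 hψ (hS.mul (hT g)) (hT (h * g))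
    have hS' : IsUnit S.det := (Matrix.isUnit_iff_isUnit_det _).1 hS.1
    show _ = T (h * g) * p₀ * (T (h * g))⁻¹ * S
    have hi : (c • (S * T g))⁻¹ = c⁻¹ • ((T g)⁻¹ * S⁻¹) := by
      refine Matrix.inv_eq_right_inv ?_
      rw [smul_mul_smul_comm, mul_inv_cancel₀ hc, one_smul, Matrix.mul_assoc, ← Matrix.mul_assoc (T g),
        Matrix.mul_nonsing_inv _ (hTmem g), Matrix.one_mul, Matrix.mul_nonsing_inv _ hS']
    rw [e, hi]
    simp only [smul_mul_assoc, mul_smul_comm, smul_smul, inv_mul_cancel₀ hc, one_smul, Matrix.mul_assoc,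
      Matrix.nonsing_inv_mul _ hS', Matrix.mul_one]
  obtain ⟨u, hu, hune⟩ := (Submodule.ne_bot_iff _).1 hU
  have hev : ∀ y, M *ᵥ ι y = (a - b) • ι y := fun y => by
    rw [hab, Matrix.add_mulVec, Matrix.smul_mulVec, Matrix.smul_mulVec, Matrix.one_mulVec,
      show parity F n *ᵥ ι y = (-1 : ℂ) • ι y from mem_sign.1 (e y).2]
    module
  have hval : a - b ≠ 0 := fun h0 => by
    have h := hMid (ι u) ⟨u, hu, rfl⟩
    rw [hev, h0, zero_smul] at h
    rcases smul_eq_zero.1 h.symm with h | h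
    · exact Nat.cast_ne_zero.2 Fintype.card_ne_zero h
    · exact hune (hι (h.trans (map_zero ι).symm))
  have hx : ι x ∈ U' := by
    have h := Submodule.smul_mem U' (a - b)⁻¹ (hMU (ι x))
    rwa [hev, smul_smul, inv_mul_cancel₀ hval, one_smul] at h
  obtain ⟨y, hy, hxy⟩ := hx
  exact hι hxy ▸ hy

end Cfsg.Agent.Weil
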